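set_option autoImplicit false
namespace Cfsg.Agent.Lib.Helper6.TCD.HeU2
noncomputable def NH (i : Nat) : Nat := Nat.land (Nat.shiftRight 0xd2000000001a4000000003480000000069000000000d2000000001a4000000003480000000069000000000d2000000001a4000000003480000000069000000000d2000000001a4000000003480000000069000000000d2000000001a4000000003480000000069000000000d2000000001a4000000003480000000069000000000d2000000001a4000000003480000000069000000000d2000000001a4000000003480000000069000000000d2000000001a4000000003480000000069000000000d2000000001a4000000003480000000069000000000d2000000001a4000000003480000000069000000000d2000000001a4000000003480000000069000000000d2000000001a4000000003480000000069000000000d2000000001a4000000003480000000069000000000d2000000001a4000000003480000000069000000000d2000000001a4000000003480000000069000000000d2000000001a4000000003480000000069000000000d2000000001a4000000003480000000069000000000d2000000001a4000000003480000000069000000000d2000000001a4000000003480000000069000000000d2000000001a4000000003480000000069000000000d2000000001a4000000003480000000069000000000d2000000001a4000000003480000000069000000000d2000000001a4000000003480000000069000000000d2000000001a4000000003480000000069000000000d2000000001a4000000003480000000069000000000d2000000001a4000000003480000000069000000000d2000000001a4000000003480000000069000000000d2000000001a4000000003480000000069000000000d2000000001a4000000003480000000069000000000d2000000001a400000000348000000006900000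0000d2000000001a4000000003480000000069000000000d2000000001a4000000003480000000069000000000d2000000001a4000000003480000000069000000000d2000000001a4000000003480000000069000000000d2000000001a4000000003480000000069000000000d2000000001a4000000003480000000069000000000d2000000001a4000000003480000000069000000000d2000000001a4000000003480000000069000000000d2000000001a4000000003480000000069000000000d2000000001a4000000003480000000069000000000d2000000001a4000000003480000000069000000000d2000000001a4000000003480000000069000000000d2000000001a4000000003480000000069000000000d2000000001a4000000003480000000069000000000d2000000001a4000000003480000000069000000000d2000000001a4000000003480000000069000000000d2000000001a4000000003480000000069000000000d2000000001a4000000003480000000069000000000d2000000001a4000000003480000000069000000000d2000000001a4000000003480000000069000000000d2000000001a4000000003480000000069000000000d2000000001a4000000003480000000069000000000d2000000001a4000000003480000000069000000000d2000000001a4000000003480000000069000000000d2000000001a4000000003480000000069000000000d2000000001a4000000003480000000069000000000d2000000001a4000000003480000000069000000000d2000000001a4000000003480000000069000000000d2000000001a4000000003480000000069000000000d2000000001a4000000003480000000069000000000d2000000001a4000000003480000000069000000000d2000000001a4000000003480000000069000000000d2000000001a4000000003480000000069000000000d2000000001a4000000003480000000069000000000d2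000000001a4000000003480000000069000000000d2000000001a4000000003480000000069000000000d2000000001a4000000003480000000069000000000d2000000001a4000000003480000000069000000000d2000000001a4000000003480000000069000000000d2000000001a4000000003480000000069000000000d2000000001a4000000003480000000069000000000d2000000001a4000000003480000000069000000000d2000000001a4000000003480000000069000000000d2000000001a4000000003480000000069000000000d2000000001a4000000003480000000069000000000d2000000001a4000000003480000000069000000000d2000000001a4000000003480000000069000000000d2000000001a4000000003480000000069000000000d2000000001a4000000003480000000069000000000d2000000001a4000000003480000000069000000000d2000000001a4000000003480000000069000000000d2000000001a4000000003480000000069000000000d2000000001a4000000003480000000069000000 (Nat.mul 43 (Nat.land i 1023))) 8796093022207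
end Cfsg.Agent.Lib.Helper6.TCD.HeU2
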