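set_option autoImplicit false
namespace Cfsg.Agent.Lib.Helper6.TCD.HeU2
noncomputable def WDL0 (i : Nat) : Nat := Nat.land (Nat.shiftRight 0x31313106001212120600212121060000040404000040400400000303040000303004000002020400002020040000010104000010100400000044020000003302000000220200000011020000000002 (Nat.mul 40 (Nat.land i 15))) 1099511627775
noncomputable def WDL1 (i : Nat) : Nat := Nat.land (Nat.shiftRight 0x3243405000243430500043423050003423405000423430500023434050003434205343434340843434343080000242404000042420400002323040000323204001414140600414141060013131306 (Nat.mul 40 (Nat.land i 15))) 1099511627775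
noncomputable def WDP0N0 (i : Nat) : Nat := Bool.rec (WDL0 i) (WDL1 i) (Nat.ble 16 i)
noncomputable def WDL2 (i : Nat) : Nat := Nat.land (Nat.shiftRight 0x434320500034324050004324305 (Nat.mul 40 (Nat.land i 15))) 1099511627775
noncomputable def WD (i : Nat) : Nat := Bool.rec (WDP0N0 i) (WDL2 i) (Nat.ble 32 i)
end Cfsg.Agent.Lib.Helper6.TCD.HeU2
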