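import Cfsg.Agent.Lib.Helper6.TCD.HeU2.SH
import Cfsg.Agent.Lib.Helper6.TCD.HeU2.SC
import Cfsg.Agent.Lib.Helper6.TCD.HeU2.NH
import Cfsg.Agent.Lib.Helper6.TCD.HeU2.NC
import Cfsg.Agent.Lib.Helper6.TCD.HeU2.WD
import Cfsg.Agent.Lib.Helper6.TCD.HeU2.WI
set_option autoImplicit false
namespace Cfsg.Agent.Lib.Helper6.TCD.HeU2
def n : Nat := 336
def ncol : Nat := 5
def nrw : Nat := 35
def nw : Nat := 35
def tmax : Nat := 1680
def INV : Nat := 274960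
def N : Nat := 336
end Cfsg.Agent.Lib.Helper6.TCD.HeU2
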